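import Mathlib
import Cfsg.Agent.Lib.ClassSize.PPrime
import Cfsg.Agent.Lib.Transfer.Basic

/-!
# How many elements centralise a full Sylow subgroup
-/

set_option autoImplicit false

namespace CfsgLib.ClassAverage

variable {G : Type*} [Group G] [Finite G] {p : ℕ}

/-- The elements whose class size is prime to `p`. -/
def bad (p : ℕ) (G : Type*) [Group G] : Set G :=
  {y | ¬ p ∣ (Subgroup.centralizer ({y} : Set G)).index}

/-- If `G` is not `p`-nilpotent, at most half of its elements have class size prime to `p`. -/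
theorem two_mul_ncard_bad_le [Fact p.Prime] (hn : ¬ Cfsg.HasNormalPComplement p G) :
    2 * (bad p G).ncard ≤ Nat.card G := by
  let P : Sylow p G := default
  set N := Subgroup.normalizer ((P : Subgroup G) : Set G)
  set C := Subgroup.centralizer ((P : Subgroup G) : Set G)
  have hCN : C ≤ N := Subgroup.centralizer_le_normalizer _
  have hne : ¬ N ≤ C := fun h =>
    hn (CfsgLib.Transfer.hasNormalPComplement_of_normalizer_le_centralizer P h)
  have hrel : 2 ≤ C.relIndex N := by
    have h1 : C.relIndex N ≠ 1 := fun h => hne (Subgroup.relIndex_eq_one.mp h)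
    have h0 : C.relIndex N ≠ 0 := (C.subgroupOf N).index_ne_zero_of_finite
    omega
  have hsub : bad p G ⊆ Set.range (fun x : (G ⧸ N) × C => x.1.out * (x.2 : G) * x.1.out⁻¹) := by
    intro y hy
    obtain ⟨T, hT⟩ := CfsgLib.ClassSize.exists_sylow_le (p := p) _ hy default
    obtain ⟨g, hg⟩ := MulAction.exists_smul_eq G P T
    obtain ⟨n, hn'⟩ := QuotientGroup.mk_out_eq_mul N g
    set r := (QuotientGroup.mk g : G ⧸ N).out
    refine ⟨(QuotientGroup.mk g, ⟨r⁻¹ * y * r, ?_⟩), by simp [r, mul_assoc]⟩
    rw [Subgroup.mem_centralizer_iff]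
    intro a ha
    have hna : (n : G) * a * (n : G)⁻¹ ∈ (P : Subgroup G) :=
      (Subgroup.mem_normalizer_iff.mp n.2 a).mp ha
    have h1 : r * a * r⁻¹ ∈ (T : Subgroup G) := by
      rw [← hg, Sylow.coe_subgroup_smul]
      refine ⟨_, hna, ?_⟩
      simp [r, hn', mul_assoc]
    rw [hT] at h1
    have h2 := Subgroup.mem_centralizer_singleton_iff.mp (Subgroup.map_subtype_le _ h1)
    calc a * (r⁻¹ * y * r) = r⁻¹ * (r * a * r⁻¹ * y) * r := by group
      _ = r⁻¹ * (y * (r * a * r⁻¹)) * r := by rw [h2]
      _ = r⁻¹ * y * r * a := by group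
  have h3 : (bad p G).ncard ≤ Nat.card (G ⧸ N) * Nat.card C := by
    refine (Set.ncard_le_ncard hsub (Set.toFinite _)).trans ?_
    rw [← Nat.card_coe_set_eq, ← Nat.card_prod]
    exact Finite.card_range_le _
  calc 2 * (bad p G).ncard ≤ C.relIndex N * (Nat.card (G ⧸ N) * Nat.card C) :=
        Nat.mul_le_mul hrel h3
    _ = Nat.card (G ⧸ N) * (Nat.card C * C.relIndex N) := by ring
    _ = Nat.card (G ⧸ N) * Nat.card N := by
        rw [show Nat.card C * C.relIndex N = Nat.card N from by
          rw [← Subgroup.relIndex_bot_left, ← Subgroup.relIndex_bot_left N,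
            Subgroup.relIndex_mul_relIndex _ _ _ bot_le hCN]]
    _ = Nat.card G := (Subgroup.card_eq_card_quotient_mul_card_subgroup N).symm

end CfsgLib.ClassAverage
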